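import Mathlib.GroupTheory.Transfer
import Mathlib.GroupTheory.Solvable
import Cfsg.Agent.S0205
import Cfsg.Agent.S0215
import Cfsg.Agent.CITGroups.Basic
import Cfsg.Agent.SEmbed.Elementary
import Cfsg.Agent.Solvable.Nilpotent
import Cfsg.Agent.ThompsonFpf.Nilpotency

/-!
# Groups with a Frobenius system on the maximal solvable subgroups

A non-solvable such group has no non-trivial solvable normal subgroup, and the nilpotent part of a
maximal solvable subgroup over a Sylow two-normaliser is a nilpotent group of even order.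
-/

set_option autoImplicit false
set_option linter.style.haveILetI false
set_option linter.unusedSectionVars false

namespace CfsgLib.FrobSystem

open Subgroup
open scoped commutatorElement

universe u

variable {G : Type u} [Group G]

/-- A solvable subgroup not properly contained in a solvable subgroup. -/
def IsMaxSolvable (M : Subgroup G) : Prop :=
  Group.IsSolvable M ∧ ∀ M' : Subgroup G, M < M' → ¬ Group.IsSolvable M'

/-- The hypothesis on a maximal solvable subgroup and its distinguished normal subgroup. -/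
structure Pair (M F : Subgroup G) : Prop where
  le : F ≤ M
  norm : M ≤ normalizer (F : Set G)
  free : ∀ a ∈ M, a ∉ F → ∀ x ∈ F, x * a = a * x → x = 1
  ti : ∀ g : G, g ∉ M → ∀ x ∈ F, g * x * g⁻¹ ∈ F → x = 1
  ne_bot : F ≠ ⊥

/-- Groups without a non-trivial solvable normal subgroup. -/
def NoRadical (G : Type u) [Group G] : Prop :=
  ∀ N : Subgroup G, N.Normal → Group.IsSolvable N → N = ⊥

theorem isSolvable_of_normal (N : Subgroup G) [N.Normal] (hN : Group.IsSolvable N)
    (hQ : Group.IsSolvable (G ⧸ N)) : Group.IsSolvable G := by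
  haveI := hN
  haveI := hQ
  exact Group.isSolvable_of_ker_le_range N.subtype (QuotientGroup.mk' N) (by simp)

/-- A solvable normal subgroup contains an abelian one. -/
theorem exists_abelian {N : Subgroup G} [N.Normal] (hN : Group.IsSolvable N) (hN1 : N ≠ ⊥) :
    ∃ A : Subgroup G, A.Normal ∧ A ≠ ⊥ ∧ ∀ a ∈ A, ∀ b ∈ A, a * b = b * a := by
  classical
  have hex : ∃ k, derivedSeries N k = ⊥ := hN.solvable
  have h0 : Nat.find hex ≠ 0 := fun e => hN1 (by
    have := Nat.find_spec hex
    rw [e, derivedSeries_zero] at this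
    exact (subgroupOf_eq_bot.mp (by rwa [subgroupOf_self])).eq_bot_of_ge le_rfl)
  set k := Nat.find hex - 1
  refine ⟨(derivedSeries N k).map N.subtype, ConjAct.normal_of_characteristic_of_normal,
    fun e => Nat.find_min hex (show k < Nat.find hex by omega)
      ((map_eq_bot_iff_of_injective _ N.subtype_injective).mp e), ?_⟩
  rintro _ ⟨a, ha, rfl⟩ _ ⟨b, hb, rfl⟩
  have h1 : ⁅a, b⁆ ∈ derivedSeries N (k + 1) := by
    rw [derivedSeries_succ]
    exact commutator_mem_commutator ha hb
  rw [show k + 1 = Nat.find hex by omega, Nat.find_spec hex, mem_bot,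
    commutatorElement_eq_one_iff_mul_comm] at h1
  exact congrArg Subtype.val h1

variable [Finite G]

theorem exists_maxSolvable {H : Subgroup G} (hH : Group.IsSolvable H) :
    ∃ M, H ≤ M ∧ IsMaxSolvable M := by
  obtain ⟨M, hHM, hM⟩ := Set.Finite.exists_le_maximal
    (Set.toFinite {M : Subgroup G | Group.IsSolvable M}) (show H ∈ {M : Subgroup G | Group.IsSolvable M} from hH)
  exact ⟨M, hHM, hM.prop, fun M' hlt hs => hlt.not_ge (hM.2 hs hlt.le)⟩

theorem isSolvable_sylowNormalizer (S : Sylow 2 G) :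
    Group.IsSolvable (normalizer ((S : Subgroup G) : Set G)) := by
  haveI : Fact (Nat.Prime 2) := ⟨Nat.prime_two⟩
  haveI := S.2.isNilpotent
  set N := normalizer ((S : Subgroup G) : Set G)
  haveI : ((S : Subgroup G).subgroupOf N).Normal := normal_subgroupOf_of_le_normalizer le_rfl
  refine isSolvable_of_normal ((S : Subgroup G).subgroupOf N)
    (Group.isSolvable_of_surjective (f := (subgroupOfEquivOfLe (le_normalizer : _ ≤ N)).symm.toMonoidHom)
      (MulEquiv.surjective _)) (Cfsg.Agent.S0205.result ?_)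
  rw [← index_eq_card, ← relIndex, ← Nat.not_even_iff_odd, even_iff_two_dvd]
  exact fun h => S.not_dvd_index (h.trans (relIndex_dvd_index_of_le le_normalizer))

/-- Some maximal solvable subgroup over a Sylow normaliser is not abelian. -/
theorem exists_pair (F : Subgroup G → Subgroup G)
    (h : ∀ M : Subgroup G, IsMaxSolvable M → Pair M (F M) ∨ IsMulCommutative M)
    (hns : ¬ Group.IsSolvable G) :
    ∃ (S : Sylow 2 G) (M : Subgroup G), normalizer ((S : Subgroup G) : Set G) ≤ M ∧
      IsMaxSolvable M ∧ Pair M (F M) := by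
  haveI : Fact (Nat.Prime 2) := ⟨Nat.prime_two⟩
  obtain ⟨S⟩ : Nonempty (Sylow 2 G) := inferInstance
  obtain ⟨M, hSM, hM⟩ := exists_maxSolvable (isSolvable_sylowNormalizer S)
  rcases h M hM with hP | hc
  · exact ⟨S, M, hSM, hM, hP⟩
  exfalso
  have hP : normalizer ((S : Subgroup G) : Set G) ≤ centralizer ((S : Subgroup G) : Set G) :=
    fun x hx => mem_centralizer_iff.2 fun s hs =>
      congrArg Subtype.val (hc.is_comm.comm ⟨s, hSM (le_normalizer hs)⟩ ⟨x, hSM hx⟩)
  have hk := MonoidHom.ker_transferSylow_isComplement' S hP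
  refine hns ?_
  set K := (MonoidHom.transferSylow S hP).ker
  haveI : K.Normal := MonoidHom.normal_ker _
  haveI := S.2.isNilpotent
  refine isSolvable_of_normal K (Cfsg.Agent.S0205.result ?_)
    (Group.isSolvable_of_surjective
      (f := (QuotientGroup.mk' K).comp (S : Subgroup G).subtype) fun q => ?_)
  · rw [← Nat.not_even_iff_odd, even_iff_two_dvd]
    exact MonoidHom.not_dvd_card_ker_transferSylow S hP
  · obtain ⟨g, rfl⟩ := QuotientGroup.mk_surjective q
    obtain ⟨⟨a, b⟩, hab⟩ := hk.surjective g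
    refine ⟨b, ?_⟩
    show ((b : G) : G ⧸ K) = (g : G ⧸ K)
    rw [show g = (a : G) * b from hab.symm, QuotientGroup.mk_mul,
      (QuotientGroup.eq_one_iff (a : G)).2 a.2, one_mul]

namespace Pair

variable {M F : Subgroup G} (P : Pair M F)
include P

theorem conj_mem {m x : G} (hm : m ∈ M) (hx : x ∈ F) : m * x * m⁻¹ ∈ F :=
  (mem_normalizer_iff.1 (P.norm hm) x).1 hx

/-- The centraliser of a non-trivial element of `F` lies in `F`. -/
theorem mem_of_commute {x g : G} (hx : x ∈ F) (hx1 : x ≠ 1) (hc : Commute g x) : g ∈ F := by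
  have hgx : g * x * g⁻¹ = x := mul_inv_eq_iff_eq_mul.2 hc.eq
  by_contra hg
  by_cases hgM : g ∈ M
  · exact hx1 (P.free g hgM hg x hx hc.eq.symm)
  · exact hx1 (P.ti g hgM x hx (hgx.symm ▸ hx))

theorem normalizer_eq : normalizer (F : Set G) = M := by
  refine le_antisymm (fun g hg => by_contra fun hgM => ?_) P.norm
  obtain ⟨x, hx, hx1⟩ := F.bot_or_exists_ne_one.resolve_left P.ne_bot
  exact hx1 (P.ti g hgM x hx ((mem_normalizer_iff.1 hg x).1 hx))

theorem noRadical (hM : IsMaxSolvable M) (hns : ¬ Group.IsSolvable G) : NoRadical G := by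
  have hMtop : M ≠ ⊤ := fun e => hns (by
    haveI := hM.1
    exact Group.isSolvable_of_surjective (f := M.subtype) fun g => ⟨⟨g, e ▸ mem_top g⟩, rfl⟩)
  intro N hN hNs
  by_contra hN1
  haveI := hN
  obtain ⟨A, hA, hA1, hAc⟩ := exists_abelian hNs hN1
  haveI := hA
  haveI : Group.IsSolvable A :=
    Group.isSolvable_of_comm fun a b => Subtype.ext (hAc a a.2 b b.2)
  have hAM : A ≤ M := by
    have hs : Group.IsSolvable ↥(M ⊔ A) := by
      haveI : (A.subgroupOf (M ⊔ A)).Normal := hA.subgroupOf _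
      haveI := hM.1
      refine isSolvable_of_normal (A.subgroupOf (M ⊔ A))
        (Group.isSolvable_of_surjective
          (f := (subgroupOfEquivOfLe (le_sup_right : A ≤ M ⊔ A)).symm.toMonoidHom)
          (MulEquiv.surjective _))
        (Group.isSolvable_of_surjective
          (f := (QuotientGroup.mk' (A.subgroupOf (M ⊔ A))).comp (inclusion le_sup_left)) fun q => ?_)
      obtain ⟨⟨g, hg⟩, rfl⟩ := QuotientGroup.mk_surjective q
      obtain ⟨m, hm, a, ha, rfl⟩ := mem_sup_of_normal_right.1 hg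
      refine ⟨⟨m, hm⟩, QuotientGroup.eq.2 ?_⟩
      rw [mem_subgroupOf]
      simpa using ha
    rcases eq_or_lt_of_le (le_sup_left : M ≤ M ⊔ A) with he | hlt
    · exact he ▸ le_sup_right
    · exact absurd hs (hM.2 _ hlt)
  by_cases hAF : ∃ a ∈ A, a ∈ F ∧ a ≠ 1
  · obtain ⟨a, ha, haF, ha1⟩ := hAF
    have hle : A ≤ F := fun b hb => P.mem_of_commute haF ha1 (hAc b hb a ha)
    obtain ⟨g, hg⟩ : ∃ g, g ∉ M := by
      by_contra hcon
      push Not at hcon
      exact hMtop (eq_top_iff.2 fun g _ => hcon g)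
    exact ha1 (P.ti g hg a haF (hle (hA.conj_mem a ha g)))
  · push Not at hAF
    obtain ⟨a, ha, ha1⟩ := A.bot_or_exists_ne_one.resolve_left hA1
    obtain ⟨x, hx, hx1⟩ := F.bot_or_exists_ne_one.resolve_left P.ne_bot
    have hxa : x * a * x⁻¹ * a⁻¹ = 1 := by
      refine hAF _ (mul_mem (hA.conj_mem a ha x) (inv_mem ha)) ?_
      rw [show x * a * x⁻¹ * a⁻¹ = x * (a * x⁻¹ * a⁻¹) by group]
      exact mul_mem hx (P.conj_mem (hAM ha) (inv_mem hx))
    exact ha1 (hAF a ha (P.mem_of_commute hx hx1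
      (mul_inv_eq_iff_eq_mul.1 (mul_inv_eq_one.1 hxa)).symm))

/-- An element outside `F` has a power of prime order outside `F`. -/
theorem exists_prime_not_mem {m : G} (hm : m ∈ M) (hmF : m ∉ F) :
    ∃ (p : ℕ) (r : G), p.Prime ∧ r ∈ M ∧ r ∉ F ∧ r ^ p = 1 := by
  classical
  have hex : ∃ k, 0 < k ∧ m ^ k ∈ F :=
    ⟨orderOf m, orderOf_pos m, by rw [pow_orderOf_eq_one]; exact one_mem F⟩
  obtain ⟨hk0, hkF⟩ := Nat.find_spec hex
  set k := Nat.find hex
  have hk1 : k ≠ 1 := fun e => hmF (by rwa [e, pow_one] at hkF)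
  obtain ⟨p, hp, d, hd⟩ := Nat.exists_prime_and_dvd hk1
  have hd0 : 0 < d := Nat.pos_of_ne_zero fun e => by rw [e, mul_zero] at hd; omega
  have hdk : d < k := by rw [hd]; exact lt_mul_of_one_lt_left hd0 hp.one_lt
  have hr : m ^ d ∉ F := fun e => Nat.find_min hex hdk ⟨hd0, e⟩
  refine ⟨p, m ^ d, hp, pow_mem hm _, hr, ?_⟩
  have hmem : (m ^ d) ^ p ∈ F := by rw [← pow_mul, mul_comm, ← hd]; exact hkF
  exact P.free _ (pow_mem hm _) hr _ hmem ((Commute.refl (m ^ d)).pow_left p).eq

theorem isNilpotent {m : G} (hm : m ∈ M) (hmF : m ∉ F) : Group.IsNilpotent F := by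
  obtain ⟨p, r, hp, hrM, hrF, hrp⟩ := P.exists_prime_not_mem hm hmF
  haveI := Fact.mk hp
  refine CfsgLib.ThompsonFpf.isNilpotent_of_conj (p := p) F r (P.norm hrM) hrp ?_
  rw [eq_bot_iff]
  intro x hx
  obtain ⟨hxF, hxc⟩ := mem_inf.1 hx
  exact mem_bot.2 (P.free r hrM hrF x hxF (mem_centralizer_singleton_iff.1 hxc))

end Pair

/-- Without radical no involution is the only one in a Sylow two-subgroup. -/
theorem not_unique_invol (hrad : NoRadical G) (S : Sylow 2 G) {z : G} (hzS : z ∈ S)
    (hz : orderOf z = 2) : ∃ t ∈ S, orderOf t = 2 ∧ t ≠ z := by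
  by_contra hcon
  push Not at hcon
  obtain ⟨N, hN, hodd, hcomm⟩ := Cfsg.Agent.S0215.result S z hz hzS fun g hg =>
    hcon _ hg (by rw [CfsgLib.Small.orderOf_conj_eq, hz])
  have hN0 := hrad N hN (Cfsg.Agent.S0205.result hodd)
  have hzc : z ∈ center G := mem_center_iff.2 fun g => by
    have := hcomm g
    rw [hN0, mem_bot] at this
    exact (mul_inv_eq_iff_eq_mul.1 (mul_inv_eq_one.1 this)).symm
  have := hrad (center G) inferInstance (Group.isSolvable_of_comm fun a b =>
    Subtype.ext (mem_center_iff.1 b.2 a))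
  rw [this, mem_bot] at hzc
  rw [hzc, orderOf_one] at hz
  omega

end CfsgLib.FrobSystem
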