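import Cfsg.Agent.FrobSystem.Basic
import Cfsg.Agent.CITGroups.Kernel

/-!
# The Frobenius kernel is strongly embedded and the group is simple
-/

set_option autoImplicit false
set_option linter.style.haveILetI false
set_option linter.unusedSectionVars false

namespace CfsgLib.FrobSystem

open Subgroup MulAction

universe u

variable {G : Type u} [Group G] [Finite G]

/-- A two-element of `M` is conjugate in `M` into a Sylow subgroup of `G` lying in `M`. -/
theorem exists_conj_mem_sylow (S : Sylow 2 G) {M : Subgroup G} (hSM : (S : Subgroup G) ≤ M) {t : G}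
    (htM : t ∈ M) (ht : orderOf t = 2) : ∃ m ∈ M, m * t * m⁻¹ ∈ S := by
  haveI : Fact (Nat.Prime 2) := ⟨Nat.prime_two⟩
  have hp : IsPGroup 2 (zpowers (⟨t, htM⟩ : M)) :=
    IsPGroup.of_card (n := 1) (by rw [Nat.card_zpowers, Subgroup.orderOf_mk, ht, pow_one])
  obtain ⟨Q, hQ⟩ := hp.exists_le_sylow
  obtain ⟨m, hm⟩ := MulAction.exists_smul_eq M Q (S.subtype hSM)
  refine ⟨m, m.2, ?_⟩
  have h1 : m * ⟨t, htM⟩ * m⁻¹ ∈ ((m • Q : Sylow 2 M) : Subgroup M) := by
    rw [Sylow.coe_subgroup_smul]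
    exact smul_mem_pointwise_smul _ (MulAut.conj m) _ (hQ (mem_zpowers _))
  rw [hm] at h1
  exact h1

namespace Pair

variable {M F : Subgroup G} (P : Pair M F) (hrad : NoRadical G) (hns : ¬ Group.IsSolvable G)
  (S : Sylow 2 G) (hSM : (S : Subgroup G) ≤ M)
include P hrad hns hSM

theorem exists_invol_sylow : ∃ z ∈ S, orderOf z = 2 := by
  haveI : Fact (Nat.Prime 2) := ⟨Nat.prime_two⟩
  have heven : 2 ∣ Nat.card G := by
    rw [← even_iff_two_dvd, ← Nat.not_odd_iff_even]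
    exact fun ho => hns (Cfsg.Agent.S0205.result ho)
  obtain ⟨⟨z, hz⟩, hzo⟩ := exists_prime_orderOf_dvd_card' (G := (S : Subgroup G)) 2
    (dvd_trans (dvd_pow_self 2 one_ne_zero)
      (S.pow_dvd_card_of_pow_dvd_card (n := 1) (by rwa [pow_one])))
  exact ⟨z, hz, by rwa [Subgroup.orderOf_mk] at hzo⟩

theorem exists_invol_mem : ∃ t ∈ F, orderOf t = 2 := by
  by_contra hcon
  push Not at hcon
  haveI : Fact (Nat.Prime 2) := ⟨Nat.prime_two⟩
  have hodd : Odd (Nat.card F) := by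
    rw [← Nat.not_even_iff_odd, even_iff_two_dvd]
    intro h
    obtain ⟨⟨t, ht⟩, hto⟩ := exists_prime_orderOf_dvd_card' 2 h
    exact hcon t ht (by rwa [Subgroup.orderOf_mk] at hto)
  have hSF : ∀ a ∈ S, a ∈ F → a = 1 := fun a haS haF => by
    obtain ⟨k, hk⟩ := CITGroups.exists_orderOf_eq_two_pow S.2 haS
    exact CITGroups.eq_one_of_odd_two_pow hk (hodd.of_dvd_nat (Subgroup.orderOf_dvd_natCard F haF))
  have hinv : ∀ t ∈ S, orderOf t = 2 → ∀ x ∈ F, t * x * t = x⁻¹ := by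
    intro t htS ht
    have htt := CfsgLib.Small.mul_self_of_orderOf_two ht
    have htF : t ∉ F := fun e => hcon t e ht
    refine CITGroups.inverts_of_fixedPointFree htt (fun x hx => ?_)
      (fun x hx hc => P.free t (hSM htS) htF x hx hc.symm)
    have := P.conj_mem (hSM htS) hx
    rwa [inv_eq_of_mul_eq_one_right htt] at this
  obtain ⟨z, hzS, hz⟩ := P.exists_invol_sylow hrad hns S hSM
  obtain ⟨t, htS, ht, htz⟩ := not_unique_invol hrad S hzS hz
  obtain ⟨x, hx, hx1⟩ := F.bot_or_exists_ne_one.resolve_left P.ne_bot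
  have hzi : z⁻¹ = z := inv_eq_of_mul_eq_one_right (CfsgLib.Small.mul_self_of_orderOf_two hz)
  have hti : t⁻¹ = t := inv_eq_of_mul_eq_one_right (CfsgLib.Small.mul_self_of_orderOf_two ht)
  have hc : Commute (t * z) x := mul_inv_eq_iff_eq_mul.1 (by
    rw [mul_inv_rev, hzi, hti]
    calc t * z * x * (z * t) = t * (z * x * z) * t := by group
      _ = x := by rw [hinv z hzS hz x hx, hinv t htS ht _ (inv_mem hx), inv_inv])
  have h1 := hSF _ (mul_mem htS hzS) (P.mem_of_commute hx hx1 hc)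
  exact htz (by rw [mul_eq_one_iff_eq_inv.1 h1, hzi])

theorem sylow_le : (S : Subgroup G) ≤ F := by
  haveI : Fact (Nat.Prime 2) := ⟨Nat.prime_two⟩
  obtain ⟨t, htF, ht⟩ := P.exists_invol_mem hrad hns S hSM
  obtain ⟨m, hm, hmS⟩ := exists_conj_mem_sylow S hSM (P.le htF) ht
  haveI := S.2.isNilpotent
  haveI : (F.subgroupOf (S : Subgroup G)).Normal :=
    normal_subgroupOf_of_le_normalizer (hSM.trans P.norm)
  have hne : F.subgroupOf (S : Subgroup G) ≠ ⊥ := fun e => by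
    have h2 : (⟨m * t * m⁻¹, hmS⟩ : (S : Subgroup G)) ∈ F.subgroupOf (S : Subgroup G) :=
      P.conj_mem hm htF
    rw [e, mem_bot] at h2
    have h3 : m * t * m⁻¹ = 1 := congrArg Subtype.val h2
    rw [conj_eq_one_iff] at h3
    rw [h3, orderOf_one] at ht
    omega
  obtain ⟨c, hc, hc1⟩ := (bot_or_exists_ne_one _).resolve_left
    (CfsgLib.Solvable.inf_center_ne_bot hne)
  obtain ⟨hcF, hcc⟩ := mem_inf.1 hc
  exact fun g hg => P.mem_of_commute (x := (c : G)) hcF (fun e => hc1 (Subtype.ext e))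
    (congrArg Subtype.val (mem_center_iff.1 hcc ⟨g, hg⟩))

theorem invol_mem {t : G} (htM : t ∈ M) (ht : orderOf t = 2) : t ∈ F := by
  obtain ⟨m, hm, hmS⟩ := exists_conj_mem_sylow S hSM htM ht
  have := P.conj_mem (inv_mem hm) (P.sylow_le hrad hns S hSM hmS)
  simpa [mul_assoc] using this

theorem stronglyEmbedded (hMtop : M ≠ ⊤) : Cfsg.IsStronglyEmbedded M := by
  obtain ⟨z, hzS, hz⟩ := P.exists_invol_sylow hrad hns S hSM
  refine (CfsgLib.Small.isStronglyEmbedded_iff hMtop ?_).2 fun t ht ho g hg => ?_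
  · rw [even_iff_two_dvd, ← hz]
    exact Subgroup.orderOf_dvd_natCard M (hSM hzS)
  · by_contra hgM
    have ho' : orderOf (g⁻¹ * t * g) = 2 := by
      simpa using (CfsgLib.Small.orderOf_conj_eq g⁻¹ t).trans ho
    have h1 := P.ti g⁻¹ (fun e => hgM (inv_mem_iff.1 e)) t (P.invol_mem hrad hns S hSM ht ho)
      (by simpa using P.invol_mem hrad hns S hSM hg ho')
    rw [h1, orderOf_one] at ho
    omega

/-- The distinguished subgroup is the kernel of a strongly embedded Frobenius group. -/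
theorem seKernel (hMtop : M ≠ ⊤) : CITGroups.SEKernel F := by
  haveI : Fact (Nat.Prime 2) := ⟨Nat.prime_two⟩
  have hSE := P.stronglyEmbedded hrad hns S hSM hMtop
  have uf := CfsgLib.SEmbed.uniqueFix hSE
  haveI := CfsgLib.SEmbed.nontrivial_cosets hSE
  obtain ⟨β, hβ⟩ := exists_ne ((1 : G) : G ⧸ M)
  have hfix : ∀ t ∈ M, orderOf t = 2 →
      t ∈ CfsgLib.SEmbed.invMap (G := G) ((1 : G) : G ⧸ M) ((1 : G) : G ⧸ M) := fun t ht ho =>
    ⟨ho, (CfsgLib.SEmbed.smul_one_eq_iff M t).2 ht⟩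
  have hSF := P.sylow_le hrad hns S hSM
  -- a complement element
  obtain ⟨m, hm, hmF⟩ : ∃ m ∈ M, m ∉ F := by
    by_contra hcon
    push Not at hcon
    obtain ⟨z, hzS, hz⟩ := P.exists_invol_sylow hrad hns S hSM
    obtain ⟨t, htS, ht, htz⟩ := not_unique_invol hrad S hzS hz
    obtain ⟨d, hd, hdt⟩ := CfsgLib.SEmbed.exists_conj_fix uf hβ.symm
      (hfix z (hSM hzS) hz) (hfix t (hSM htS) ht)
    obtain ⟨hd1, hd2⟩ := CfsgLib.SEmbed.mem_pairStab.1 hd
    obtain ⟨g, rfl⟩ := QuotientGroup.mk_surjective β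
    have hgM : g⁻¹ ∉ M := fun e => hβ (QuotientGroup.eq.2 (by simpa using e))
    have hd0 := P.ti g⁻¹ hgM d (hcon _ ((CfsgLib.SEmbed.smul_one_eq_iff M d).1 hd1))
      (by simpa using hcon _ ((CfsgLib.SEmbed.smul_mk_eq_iff M d g).1 hd2))
    rw [hd0, one_mul, inv_one, mul_one] at hdt
    exact htz hdt.symm
  haveI := P.isNilpotent hm hmF
  -- an involution central in `F`
  haveI : ((S.subtype hSF : Sylow 2 F) : Subgroup F).Normal :=
    inferInstance
  obtain ⟨z, hzS, hz⟩ := P.exists_invol_sylow hrad hns S hSM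
  have hne : ((S.subtype hSF : Sylow 2 F) : Subgroup F) ≠ ⊥ := fun e => by
    have h2 : (⟨z, hSF hzS⟩ : F) ∈ ((S.subtype hSF : Sylow 2 F) : Subgroup F) := hzS
    rw [e, mem_bot] at h2
    have h3 : z = 1 := congrArg Subtype.val h2
    rw [h3, orderOf_one] at hz
    omega
  obtain ⟨c, hc, hc1⟩ := (bot_or_exists_ne_one _).resolve_left
    (CfsgLib.Solvable.inf_center_ne_bot hne)
  obtain ⟨hcS, hcc⟩ := mem_inf.1 hc
  obtain ⟨k, hk⟩ := CITGroups.exists_orderOf_eq_two_pow S.2 (d := (c : G)) hcS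
  have hk0 : k ≠ 0 := fun e => hc1 (Subtype.ext
    (orderOf_eq_one_iff.1 (by rw [hk, e, pow_zero]) : (c : G) = 1))
  set e : G := (c : G) ^ (orderOf (c : G) / 2) with he
  have heo : orderOf e = 2 := orderOf_pow_orderOf_div (orderOf_pos _).ne' (hk ▸ dvd_pow_self 2 hk0)
  have heF : e ∈ F := pow_mem c.2 _
  have hec : ∀ w ∈ F, Commute w e := fun w hw =>
    (show Commute w (c : G) from congrArg Subtype.val (mem_center_iff.1 hcc ⟨w, hw⟩)).pow_right _
  refine ⟨P.normalizer_eq.symm ▸ hMtop, ⟨e, heF, heo⟩, fun t ht ho => ?_, fun t ht ho w hw => ?_,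
    fun g h hh hh1 hgh => ?_, fun m hm h hh hh1 hc => ?_⟩
  · rw [P.normalizer_eq] at ht
    exact P.invol_mem hrad hns S hSM ht ho
  · obtain ⟨d, hd, hdt⟩ := CfsgLib.SEmbed.exists_conj_fix uf hβ.symm
      (hfix e (P.le heF) heo) (hfix t (P.le ht) ho)
    have hdM : d ∈ M := (CfsgLib.SEmbed.smul_one_eq_iff M d).1 (CfsgLib.SEmbed.mem_pairStab.1 hd).1
    have h1 := hec _ (P.conj_mem (inv_mem hdM) hw)
    rw [inv_inv] at h1
    rw [← hdt]
    show w * (d * e * d⁻¹) = d * e * d⁻¹ * w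
    calc w * (d * e * d⁻¹) = d * (d⁻¹ * w * d * e) * d⁻¹ := by group
      _ = d * (e * (d⁻¹ * w * d)) * d⁻¹ := by rw [h1.eq]
      _ = _ := by group
  · rw [P.normalizer_eq]
    exact by_contra fun hgM => hh1 (P.ti g hgM h hh hgh)
  · rw [P.normalizer_eq] at hm
    exact P.mem_of_commute hh hh1 hc

end Pair

/-- A group without radical with a strongly embedded Frobenius group having central involutions
is simple. -/
theorem isSimpleGroup {F : Subgroup G} (K : CITGroups.SEKernel F) (hrad : NoRadical G)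
    (hns : ¬ Group.IsSolvable G) (S : Sylow 2 G) (hSF : (S : Subgroup G) ≤ F) :
    IsSimpleGroup G := by
  haveI : Nontrivial G := by
    by_contra h
    haveI := not_nontrivial_iff_subsingleton.1 h
    exact hns (Group.isSolvable_of_comm fun a b => Subsingleton.elim _ _)
  refine ⟨fun N hN => or_iff_not_imp_left.2 fun hN1 => ?_⟩
  set M := normalizer (F : Set G)
  haveI := CfsgLib.SEmbed.nontrivial_cosets K.stronglyEmbedded
  obtain ⟨t₀, ht₀, ht₀o⟩ : ∃ t ∈ N, orderOf t = 2 := by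
    haveI : Fact (Nat.Prime 2) := ⟨Nat.prime_two⟩
    obtain ⟨⟨t, ht⟩, hto⟩ := exists_prime_orderOf_dvd_card' (G := N) 2 (by
      rw [← even_iff_two_dvd, ← Nat.not_odd_iff_even]
      exact fun ho => hN1 (hrad N hN (Cfsg.Agent.S0205.result ho)))
    exact ⟨t, ht, by rwa [Subgroup.orderOf_mk] at hto⟩
  have hall : ∀ t, orderOf t = 2 → t ∈ N := fun t ht => by
    obtain ⟨g, hg⟩ := isConj_iff.1 (CfsgLib.SEmbed.isConj_invol K.uf ht₀o ht)
    exact hg ▸ hN.conj_mem t₀ ht₀ g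
  have htrans : ∀ x y : G ⧸ M, ∃ n : N, n • x = y := by
    intro x y
    by_cases hxy : x = y
    · exact ⟨1, by rw [hxy, one_smul]⟩
    obtain ⟨s, hs, hsx⟩ := K.uf.exists_inv x
    obtain ⟨t, ht, hty⟩ := K.uf.exists_inv y
    obtain ⟨i, ⟨hi, hixy⟩, -⟩ := CfsgLib.SEmbed.exists_interchange K.uf hs ht hsx hty hxy
    exact ⟨⟨i, hall i hi⟩, hixy⟩
  have ufN : CfsgLib.SEmbed.UniqueFix N (G ⧸ M) := by
    refine ⟨fun i hi x y hx hy => K.uf.unique (i : G) (by rwa [Subgroup.orderOf_coe]) x y hx hy,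
      fun i hi => K.uf.exists_fix (i : G) (by rwa [Subgroup.orderOf_coe]), fun x => ?_, htrans⟩
    obtain ⟨i, hi, hix⟩ := K.uf.exists_inv x
    exact ⟨⟨i, hall i hi⟩, by rwa [Subgroup.orderOf_mk], hix⟩
  obtain ⟨β, hβ⟩ := exists_ne ((1 : G) : G ⧸ M)
  have key : ∀ s t : G, s ∈ M → t ∈ M → orderOf s = 2 → orderOf t = 2 →
      ∃ d : G, d ∈ N ∧ d ∈ M ∧ d * s * d⁻¹ = t := by
    intro s t hs ht hso hto
    obtain ⟨d, hd, hdt⟩ := CfsgLib.SEmbed.exists_conj_fix ufN hβ.symm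
      (s := ⟨s, hall s hso⟩) (t := ⟨t, hall t hto⟩)
      ⟨by rwa [Subgroup.orderOf_mk], (CfsgLib.SEmbed.smul_one_eq_iff M s).2 hs⟩
      ⟨by rwa [Subgroup.orderOf_mk], (CfsgLib.SEmbed.smul_one_eq_iff M t).2 ht⟩
    exact ⟨d, d.2, (CfsgLib.SEmbed.smul_one_eq_iff M (d : G)).1
      (CfsgLib.SEmbed.mem_pairStab.1 hd).1, congrArg Subtype.val hdt⟩
  obtain ⟨z, hzF, hz⟩ := K.exists_invol
  have hz1 : z ≠ 1 := fun e => by rw [e, orderOf_one] at hz; omega
  obtain ⟨h₀, hh₀N, hh₀M, hh₀F⟩ : ∃ h ∈ N, h ∈ M ∧ h ∉ F := by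
    haveI : Fact (Nat.Prime 2) := ⟨Nat.prime_two⟩
    obtain ⟨⟨s, hs⟩, hso⟩ : ∃ s : (S : Subgroup G), orderOf s = 2 :=
      exists_prime_orderOf_dvd_card' 2 (dvd_trans (dvd_pow_self 2 one_ne_zero)
        (S.pow_dvd_card_of_pow_dvd_card (n := 1) (by
          rw [pow_one, ← hz]; exact orderOf_dvd_natCard z)))
    rw [Subgroup.orderOf_mk] at hso
    obtain ⟨t, htS, ht, hts⟩ := not_unique_invol hrad S hs hso
    obtain ⟨d, hdN, hdM, hdt⟩ := key s t (le_normalizer (hSF hs)) (le_normalizer (hSF htS)) hso ht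
    refine ⟨d, hdN, hdM, fun hdF => hts ?_⟩
    rw [← hdt, (K.invol_central s (hSF hs) hso d hdF).eq, mul_inv_cancel_right]
  have hFN : F ≤ N := by
    let f : F → ↥(F ⊓ N) := fun x => ⟨(x : G) * h₀ * (x : G)⁻¹ * h₀⁻¹, mem_inf.2 ⟨by
      rw [show (x : G) * h₀ * (x : G)⁻¹ * h₀⁻¹ = (x : G) * (h₀ * (x : G)⁻¹ * h₀⁻¹) by group]
      exact mul_mem x.2 (K.mem_kernel_conj hh₀M (inv_mem x.2)),
      mul_mem (hN.conj_mem h₀ hh₀N _) (inv_mem hh₀N)⟩⟩
    have hf : Function.Injective f := by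
      intro x y hxy
      have h1 : (x : G) * h₀ * (x : G)⁻¹ = (y : G) * h₀ * (y : G)⁻¹ :=
        mul_right_cancel (congrArg Subtype.val hxy)
      by_contra hne
      refine hh₀F (K.frob h₀ hh₀M ((y : G)⁻¹ * x) (mul_mem (inv_mem y.2) x.2)
        (fun e => hne (Subtype.ext (inv_mul_eq_one.1 e).symm)) ?_)
      show h₀ * ((y : G)⁻¹ * x) = (y : G)⁻¹ * x * h₀
      calc h₀ * ((y : G)⁻¹ * x) = (y : G)⁻¹ * ((y : G) * h₀ * (y : G)⁻¹) * x := by group
        _ = (y : G)⁻¹ * ((x : G) * h₀ * (x : G)⁻¹) * x := by rw [h1]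
        _ = _ := by group
    exact inf_eq_left.1 (eq_of_le_of_card_ge inf_le_left (Nat.card_le_card_of_injective f hf))
  have hMN : M ≤ N := by
    intro m hm
    obtain ⟨d, hdN, hdM, hdz⟩ := key z (m * z * m⁻¹) (le_normalizer hzF)
      (le_normalizer (K.mem_kernel_conj hm hzF)) hz (by rw [CfsgLib.Small.orderOf_conj_eq, hz])
    have hF : d⁻¹ * m ∈ F := K.frob _ (mul_mem (inv_mem hdM) hm) z hzF hz1
      (mul_inv_eq_iff_eq_mul.1 (by
        calc d⁻¹ * m * z * (d⁻¹ * m)⁻¹ = d⁻¹ * (m * z * m⁻¹) * d := by group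
          _ = z := by rw [← hdz]; group))
    simpa using mul_mem hdN (hFN hF)
  refine eq_top_iff.2 fun g _ => ?_
  obtain ⟨n, hn⟩ := htrans ((1 : G) : G ⧸ M) (g : G ⧸ M)
  have hn' : ((n : G) : G ⧸ M) = (g : G ⧸ M) := (CfsgLib.SEmbed.smul_mk_one M (n : G)).symm.trans hn
  simpa using mul_mem n.2 (hMN (QuotientGroup.eq.1 hn'))

end CfsgLib.FrobSystem
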